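import Cfsg.Agent.Fus.Prod72.Closure
import Cfsg.Agent.Fus.Comp89.Mono
import Cfsg.Agent.Fus.NormalCentralizer.Contains
import Cfsg.Agent.Eq.Def_FusionComponents
import Cfsg.Agent.S5144

/-!
A strongly closed subgroup commuting with `T` and meeting it in the centre of `E` is centralized by
`E`.
-/

set_option autoImplicit false
set_option linter.unusedSectionVars false

namespace CfsgLib.Fus.Prod72

open Cfsg Cfsg.FusionSystem CfsgLib.Fus CfsgLib.NormalCent

variable {Ω : Type*} [Group Ω] {S T Y : Subgroup Ω} [Finite S] {p : ℕ} [Fact p.Prime]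
  {F : Cfsg.FusionSystem S} {E : Cfsg.FusionSystem T}

/-- The elements of the centre of `E` are fixed by the canonical automorphisms. -/
theorem canon_fix_center (hE : E.IsNormalIn F p) {Q : Subgroup Ω} {β : Ω → Ω}
    (hβ : Canon F E p Q β) {z : Ω} (hzQ : z ∈ Q) (hz : z ∈ E.center) : β z = z := by
  have : Finite T := finite_of_le (le_S hE)
  obtain ⟨a, ha, hae⟩ := hβ.adm
  obtain ⟨ψ, -, h1, h2⟩ :=
    (Cfsg.Agent.S5144.result E).2 Q _ ((mem_autGroup_iff E hβ.tc.1).1 ha.1)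
  have e := h1 ⟨z, hzQ⟩
  rw [show Subgroup.inclusion le_sup_left (⟨z, hzQ⟩ : Q) =
    Subgroup.inclusion (le_sup_right : E.center ≤ Q ⊔ E.center) ⟨z, hz⟩ from rfl, h2] at e
  exact (hae ⟨z, hzQ⟩).trans e.symm

/-- A commuting strongly closed subgroup meeting `T` centrally is centralized by `E`. -/
theorem le_cSub_of_central (hS : IsPGroup p S) (hE : E.IsNormalIn F p) (hY : F.StronglyClosed Y)
    (hc : Comm T Y) (hz : T ⊓ Y ≤ E.center) : Y ≤ cSub F E p := by
  intro c hcY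
  have hcT : c ∈ centralizerIn S T := ⟨hY.1 hcY, fun t ht => hc t ht c hcY⟩
  refine ⟨hcT, fun Q β hβ => ?_⟩
  have hcQ : c ∈ centralizerIn S Q := centralizerIn_antitone hβ.tc.1 hcT
  have hzQ := hβ.comm c hcQ
  have hzY : c⁻¹ * β c ∈ Y :=
    Y.mul_mem (Y.inv_mem hcY) (Comp89.mor_mem_closed hY hβ.mor (Subgroup.mem_sup_right hcQ) hcY)
  have hfix := canon_fix_center hE hβ hzQ (hz ⟨hβ.tc.1 hzQ, hzY⟩)
  have h1 := hβ.iterate_fix hS (Subgroup.mem_sup_right hcQ) (Subgroup.mem_sup_left hzQ)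
    (show β c = c * (c⁻¹ * β c) by group) hfix
  exact (inv_mul_eq_one.1 h1).symm

/-- Every map of `E` extends fixing such a subgroup. -/
theorem exists_glue (hS : IsPGroup p S) (hE : E.IsNormalIn F p) (hYc : Y ≤ cSub F E p)
    {P : Subgroup Ω} {f : Ω → Ω} (hf : Mor E P f) :
    ∃ g, Mor F (P ⊔ Y) g ∧ (∀ x ∈ P, g x = f x) ∧ ∀ y ∈ Y, g y = y := by
  obtain ⟨φ, hφ, e⟩ := hf
  obtain ⟨g, hg, hge, hgC⟩ := fixes_of_mem hS hE hφ
  exact ⟨g, hg.restrict (sup_le_sup_left hYc P), fun x hx => (hge ⟨x, hx⟩).trans (e ⟨x, hx⟩),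
    fun y hy => hgC y (hYc hy)⟩

/-- An automorphism of `T` in `E` lifts to `T Y C_S(TY)` fixing `Y`, displacing `C_S(TY)` centrally. -/
theorem exists_top_lift (hS : IsPGroup p S) (hE : E.IsNormalIn F p) (hYS : Y ≤ S)
    (hYc : Y ≤ cSub F E p) {a : MulAut T} (ha : a ∈ E.autGroup T) :
    ∃ g, Mor F (T ⊔ Y ⊔ centralizerIn S (T ⊔ Y)) g ∧ (∀ x : T, g x = ((a x : T) : Ω)) ∧
      (∀ y ∈ Y, g y = y) ∧
      (∀ x ∈ T ⊔ Y ⊔ centralizerIn S (T ⊔ Y), g x ∈ T ⊔ Y ⊔ centralizerIn S (T ⊔ Y)) ∧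
      ∀ c ∈ centralizerIn S (T ⊔ Y),
        c⁻¹ * g c ∈ (T ⊔ Y) ⊓ Subgroup.centralizer ((T ⊔ Y : Subgroup Ω) : Set Ω) := by
  classical
  have hTS := le_S hE
  have : Finite T := finite_of_le hTS
  have hTp : IsPGroup p T := hS.to_le hTS
  have := finite_mulAut T
  set W := T ⊔ Y ⊔ centralizerIn S (T ⊔ Y) with hW
  set K := (T ⊔ Y) ⊓ Subgroup.centralizer ((T ⊔ Y : Subgroup Ω) : Set Ω) with hK
  have hWS : W ≤ S := sup_le (sup_le hTS hYS) (centralizerIn_le _)
  have hKW : K ≤ W := inf_le_left.trans le_sup_left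
  have hTW : T ≤ W := le_sup_left.trans le_sup_left
  have hYW : Y ≤ W := le_sup_right.trans le_sup_left
  let G : E.autGroup T → Prop := fun b => ∃ g, Mor F W g ∧
    (∀ x : T, g x = (((b : MulAut T) x : T) : Ω)) ∧ (∀ y ∈ Y, g y = y) ∧ (∀ x ∈ W, g x ∈ W) ∧
    ∀ c ∈ centralizerIn S (T ⊔ Y), c⁻¹ * g c ∈ K
  have hG1 : G 1 := ⟨id, mor_id hWS, fun _ => rfl, fun _ _ => rfl, fun _ h => h,
    fun c _ => by simp⟩
  have hGmul : ∀ b c, G b → G c → G (b * c) := by
    rintro b c ⟨f, hf, hfb, hfY, hfW, hfd⟩ ⟨g, hg, hgc, hgY, hgW, hgd⟩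
    refine ⟨f ∘ g, hg.comp hf hgW, fun x => ?_, fun y hy => ?_, fun x hx => hfW _ (hgW x hx),
      fun x hx => ?_⟩
    · show f (g x) = _
      rw [hgc x]
      exact hfb ((c : MulAut T) x)
    · show f (g y) = y
      rw [hgY y hy, hfY y hy]
    · have hkx := hgd x hx
      have hxW : x ∈ W := Subgroup.mem_sup_right hx
      have e : f (g x) = f x * f (x⁻¹ * g x) := by
        rw [← hf.map_mul hxW (hKW hkx), mul_inv_cancel_left]
      have hTY : ∀ u ∈ T ⊔ Y, f u ∈ T ⊔ Y := fun u hu => mem_of_sup hf le_sup_left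
        (fun t ht => Subgroup.mem_sup_left (hfb ⟨t, ht⟩ ▸ SetLike.coe_mem _))
        (fun y hy => Subgroup.mem_sup_right ((hfY y hy).symm ▸ hy)) hu
      have hfk : f (x⁻¹ * g x) ∈ K := by
        refine ⟨hTY _ hkx.1, fun u hu => ?_⟩
        have hfin : Finite ↥(T ⊔ Y) := finite_of_le (sup_le hTS hYS)
        have himg : f '' ((T ⊔ Y : Subgroup Ω) : Set Ω) = (T ⊔ Y : Subgroup Ω) :=
          image_eq (hf.restrict le_sup_left) hTY
        obtain ⟨w, hw, rfl⟩ : u ∈ f '' ((T ⊔ Y : Subgroup Ω) : Set Ω) := himg.symm ▸ hu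
        have hwW : w ∈ W := Subgroup.mem_sup_left hw
        rw [← hf.map_mul hwW (hKW hkx), ← hf.map_mul (hKW hkx) hwW, hkx.2 w hw]
      show x⁻¹ * f (g x) ∈ K
      rw [e, ← mul_assoc]
      exact K.mul_mem (hfd x hx) hfk
  have hGpow : ∀ b, G b → ∀ n : ℕ, G (b ^ n) := fun b hb n => by
    induction n with
    | zero => exact hG1
    | succ n ih => rw [pow_succ]; exact hGmul _ _ ih hb
  let Dsub : Subgroup (E.autGroup T) :=
    { carrier := {b | G b}
      one_mem' := hG1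
      mul_mem' := fun {b c} => hGmul b c
      inv_mem' := fun {b} hb => by
        have h1 : b ^ (orderOf b - 1) = b⁻¹ := by
          refine eq_inv_of_mul_eq_one_left ?_
          rw [← pow_succ, Nat.sub_add_cancel (orderOf_pos b), pow_orderOf_eq_one]
        show G b⁻¹
        rw [← h1]
        exact hGpow b hb _ }
  have hfn : E.IsFullyNormalized T := isFullyNormalized_top E
  obtain ⟨-, U, hU⟩ := (fullyNormalized_props hTp hE.1.1 hfn).1
  have htc : TCentric F T T := by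
    refine ⟨le_rfl, fun f hf c hc _ => ?_⟩
    have h := image_eq hf fun x hx => Comp89.mor_mem_closed (closedT hE) hf hx hx
    obtain ⟨x, hx, rfl⟩ : c ∈ f '' (T : Set Ω) := h.symm ▸ hc
    exact ⟨x, hx, rfl⟩
  suffices h : Dsub = ⊤ by
    have h' : (⟨a, ha⟩ : E.autGroup T) ∈ Dsub := h ▸ Subgroup.mem_top _
    exact h'
  refine eq_top_of_sylow_of_coprime U (fun b hb => ?_) fun b hb => ?_
  · rw [hU] at hb
    obtain ⟨t, ht, hte⟩ := mem_autInducedBy_iff.1 hb
    refine ⟨fun x => t * x * t⁻¹, mor_conj hWS (hTS ht), fun x => (hte x).symm, fun y hy => ?_,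
      fun x hx => W.mul_mem (W.mul_mem (hTW ht) hx) (W.inv_mem (hTW ht)), fun c hc => ?_⟩
    · show t * y * t⁻¹ = y
      rw [(cSub_le (hYc hy)).2 t ht, mul_inv_cancel_right]
    · show c⁻¹ * (t * c * t⁻¹) ∈ K
      rw [hc.2 t (Subgroup.mem_sup_left ht), mul_inv_cancel_right, inv_mul_cancel]
      exact K.one_mem
  · obtain ⟨β, hβ, hβe, -⟩ := exists_canon_strong hS hE htc (a := (b : MulAut T))
      ⟨b.2, by rwa [Subgroup.orderOf_coe], Or.inl rfl⟩
    have hle : W ≤ T ⊔ centralizerIn S T := sup_le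
      (sup_le le_sup_left ((hYc.trans cSub_le).trans le_sup_right))
      ((centralizerIn_antitone le_sup_left).trans le_sup_right)
    have hd : ∀ c ∈ centralizerIn S (T ⊔ Y), c⁻¹ * β c ∈ K := by
      intro c hc
      have hcT : c ∈ centralizerIn S T := centralizerIn_antitone le_sup_left hc
      have hzT := hβ.comm c hcT
      have hzC : c⁻¹ * β c ∈ centralizerIn S T :=
        Subgroup.mul_mem _ (Subgroup.inv_mem _ hcT) (hβ.map_cent hcT)
      refine ⟨Subgroup.mem_sup_left hzT, fun u hu => ?_⟩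
      obtain ⟨t, ht, y, hy, rfl⟩ := PPrimeExist.mem_sup_commuting
        (fun t ht y hy => (cSub_le (hYc hy)).2 t ht) hu
      rw [mul_assoc, ← (cSub_le (hYc hy)).2 _ hzT, ← mul_assoc, hzC.2 t ht, mul_assoc]
    refine ⟨β, hβ.mor.restrict hle, hβe, fun y hy => (hYc hy).2 T β hβ, fun x hx => ?_, hd⟩
    refine mem_of_sup (hβ.mor.restrict hle) le_rfl (fun u hu => ?_) (fun c hc => ?_) hx
    · exact Subgroup.mem_sup_left (mem_of_sup (hβ.mor.restrict hle) le_sup_left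
        (fun t ht => Subgroup.mem_sup_left (hβ.map_self ht))
        (fun y hy => Subgroup.mem_sup_right (((hYc hy).2 T β hβ).symm ▸ hy)) hu)
    · rw [← mul_inv_cancel_left c (β c)]
      exact W.mul_mem (Subgroup.mem_sup_right hc) (hKW (hd c hc))

end CfsgLib.Fus.Prod72
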