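import Cfsg.Agent.Fus.Prod72.System
import Cfsg.Agent.Fus.Prod72.Fixed
import Cfsg.Agent.S5128

/-!
A central product of two normal subsystems meeting in both centres is a normal subsystem.
-/

set_option autoImplicit false
set_option linter.unusedSectionVars false

namespace CfsgLib.Fus.Prod72

open Cfsg Cfsg.FusionSystem CfsgLib.Fus CfsgLib.NormalCent CfsgLib.Fusion.Alperin

variable {Ω : Type*} [Group Ω] {S T₁ T₂ U : Subgroup Ω} [Finite S] {p : ℕ} [Fact p.Prime]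
  {F : Cfsg.FusionSystem S} {E₁ : Cfsg.FusionSystem T₁} {E₂ : Cfsg.FusionSystem T₂}

/-- A map of the central product is a map of the system. -/
theorem sub_of_sys (hS : IsPGroup p S) (h₁ : E₁.IsNormalIn F p) (h₂ : E₂.IsNormalIn F p)
    (hy₁ : T₂ ≤ cSub F E₁ p) (hy₂ : T₁ ≤ cSub F E₂ p) {D : Cfsg.FusionSystem (T₁ ⊔ T₂)}
    (h : Sys E₁ E₂ D) : D.IsSubsystemOf F := by
  intro P φ hφ
  obtain ⟨f, hf, hfe⟩ := exists_mor hφ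
  obtain ⟨hP, f₁, f₂, hf₁, hf₂, hval⟩ := (h.iff P f).1 hf
  obtain ⟨g₁, hg₁, hg₁e, hg₁Y⟩ := exists_glue hS h₁ hy₁ hf₁
  obtain ⟨g₂, hg₂, hg₂e, hg₂Y⟩ := exists_glue hS h₂ hy₂ hf₂
  have hle : P ≤ proj T₁ T₂ P ⊔ proj T₂ T₁ P := fun x hx => inf_le_dec h.comm ⟨hx, hP hx⟩
  have hr : proj T₁ T₂ P ⊔ proj T₂ T₁ P ≤ proj T₁ T₂ P ⊔ T₂ := sup_le_sup_left proj_le _
  have hm₁ : ∀ a ∈ proj T₁ T₂ P, g₁ a ∈ T₁ := fun a ha => by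
    obtain ⟨ψ, hψ, e⟩ := hf₁
    rw [hg₁e a ha, ← e ⟨a, ha⟩]
    exact hom_mem E₁ hψ _
  have hm : ∀ x ∈ proj T₁ T₂ P ⊔ proj T₂ T₁ P, g₁ x ∈ proj T₂ T₁ P ⊔ T₁ := fun x hx =>
    mem_of_sup (hg₁.restrict hr) le_rfl (fun a ha => Subgroup.mem_sup_right (hm₁ a ha))
      (fun b hb => Subgroup.mem_sup_left ((hg₁Y b (proj_le hb)).symm ▸ hb)) hx
  refine Comp89.hom_of_mor (((hg₁.restrict hr).comp hg₂ hm).restrict hle) fun x => ?_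
  obtain ⟨a, ha, b, hb, hab⟩ := PPrimeExist.mem_sup_commuting h.comm (hP x.2)
  obtain ⟨hpa, hpb⟩ := parts_mem h.comm ha hb (hab ▸ x.2)
  show φ x = g₂ (g₁ (x : Ω))
  rw [← hfe x, hab, hval a ha b hb (hab ▸ x.2),
    hg₁.map_mul (Subgroup.mem_sup_left hpa) (Subgroup.mem_sup_right hb), hg₁Y b hb,
    hg₂.map_mul (Subgroup.mem_sup_right (hm₁ a hpa)) (Subgroup.mem_sup_left hpb),
    hg₂Y _ (hm₁ a hpa), hg₂e b hpb, hg₁e a hpa]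

/-- The transport of one factor. -/
theorem transport_side {E : Cfsg.FusionSystem T₁} (hE : E.IsNormalIn F p) (hc : Comm T₁ T₂)
    (h₂F : F.StronglyClosed T₂) {P Q : Subgroup Ω} (hPQ : P ≤ Q) {f₁ : Ω → Ω}
    (hf₁ : Mor E (proj T₁ T₂ P) f₁) (hf₁Q : ∀ a ∈ proj T₁ T₂ P, f₁ a ∈ proj T₁ T₂ Q)
    {D : Subgroup Ω} {g : Ω → Ω} (hg : Mor F D g) (hD₁ : proj T₁ T₂ Q ≤ D)
    (hD₂ : proj T₂ T₁ Q ≤ D) {P' : Subgroup Ω} (hP' : ∀ y ∈ P', ∃ x ∈ P, x ∈ T₁ ⊔ T₂ ∧ g x = y) :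
    ∃ f', Mor E (proj T₁ T₂ P') f' ∧
      ∀ a ∈ proj T₁ T₂ P', ∃ a₀ ∈ proj T₁ T₂ P, g a₀ = a ∧ f' a = g (f₁ a₀) := by
  classical
  have h₁F := closedT hE
  have hTS := le_S hE
  have : Finite T₁ := finite_of_le hTS
  obtain ⟨φ, hφ, e⟩ := hf₁
  obtain ⟨ψ, hψ, hψe⟩ := hg.restrict hD₁
  obtain ⟨χ, hχ, hχe⟩ := strong_of_invariant hTS hE.1.2.2 _ _ (proj_mono hPQ) proj_le φ hφ
    (fun a => e a ▸ hf₁Q a a.2) ψ hψ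
  set A := ((proj T₁ T₂ P).subgroupOf (proj T₁ T₂ Q)).map ψ with hA
  have himg : ∀ a ∈ proj T₁ T₂ P', ∃ a₀ ∈ proj T₁ T₂ P, g a₀ = a := by
    intro a ha
    obtain ⟨haT, b, hb, hab⟩ := (mem_proj hc).1 ha
    obtain ⟨x, hx, hxU, hgx⟩ := hP' _ hab
    obtain ⟨a', ha', b', hb', rfl⟩ := PPrimeExist.mem_sup_commuting hc hxU
    obtain ⟨hpa, hpb⟩ := parts_mem hc ha' hb' hx
    have h1 := hD₁ (proj_mono hPQ hpa)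
    have h2 := hD₂ (proj_mono hPQ hpb)
    rw [hg.map_mul h1 h2] at hgx
    have hz : (g a')⁻¹ * a ∈ T₁ ⊓ T₂ := by
      refine ⟨T₁.mul_mem (T₁.inv_mem (PPrimeExist.mor_mem_T h₁F hg h1 ha')) haT, ?_⟩
      rw [show (g a')⁻¹ * a = g b' * b⁻¹ by rw [show a = g a' * g b' * b⁻¹ by rw [hgx]; group]; group]
      exact T₂.mul_mem (PPrimeExist.mor_mem_T h₂F hg h2 hb') (T₂.inv_mem hb)
    have hle : T₁ ⊓ T₂ ≤ D := inf_le_proj.trans hD₁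
    have : Finite ↥(T₁ ⊓ T₂) := finite_of_le (inf_le_left : T₁ ⊓ T₂ ≤ T₁)
    have himg2 : g '' ((T₁ ⊓ T₂ : Subgroup Ω) : Set Ω) = (T₁ ⊓ T₂ : Subgroup Ω) :=
      image_eq (hg.restrict hle) fun x hx =>
        ⟨PPrimeExist.mor_mem_T h₁F hg (hle hx) hx.1, PPrimeExist.mor_mem_T h₂F hg (hle hx) hx.2⟩
    obtain ⟨w, hw, hgw⟩ : (g a')⁻¹ * a ∈ g '' ((T₁ ⊓ T₂ : Subgroup Ω) : Set Ω) := himg2.symm ▸ hz
    exact ⟨a' * w, Subgroup.mul_mem _ hpa (inf_le_proj hw),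
      by rw [hg.map_mul h1 (hle hw), hgw, mul_inv_cancel_left]⟩
  have hPA : proj T₁ T₂ P' ≤ A := fun a ha => by
    obtain ⟨a₀, ha₀, rfl⟩ := himg a ha
    exact ⟨⟨a₀, proj_mono hPQ ha₀⟩, ha₀, hψe _⟩
  obtain ⟨f', hf', hf'e⟩ := exists_mor hχ
  refine ⟨f', hf'.restrict hPA, fun a ha => ?_⟩
  obtain ⟨a₀, ha₀, rfl⟩ := himg a ha
  refine ⟨a₀, ha₀, rfl, ?_⟩
  have hm : ψ (Subgroup.inclusion (proj_mono hPQ) ⟨a₀, ha₀⟩) ∈ A :=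
    ⟨⟨a₀, proj_mono hPQ ha₀⟩, ha₀, rfl⟩
  have h := hχe ⟨a₀, ha₀⟩ hm
  rw [← hf'e] at h
  rw [show g a₀ = ψ (Subgroup.inclusion (proj_mono hPQ) ⟨a₀, ha₀⟩) from (hψe (Subgroup.inclusion (proj_mono hPQ) ⟨a₀, ha₀⟩)).symm]
  refine h.trans ((hψe _).trans ?_)
  exact congrArg g (e ⟨a₀, ha₀⟩)

/-- The central product is strongly invariant. -/
theorem strong_of_sys (hS : IsPGroup p S) (hF : F.IsSaturated p) (h₁ : E₁.IsNormalIn F p)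
    (h₂ : E₂.IsNormalIn F p) (hU : F.StronglyClosed (T₁ ⊔ T₂))
    {D : Cfsg.FusionSystem (T₁ ⊔ T₂)} (h : Sys E₁ E₂ D) : StrongInvariant D F := by
  classical
  have hc := h.comm
  have h₁F := closedT h₁
  have h₂F := closedT h₂
  intro P Q hPQ hQU φ hφ hφQ ψ hψ
  obtain ⟨f, hf, hfe⟩ := exists_mor hφ
  obtain ⟨hP, f₁, f₂, hf₁, hf₂, hval⟩ := (h.iff P f).1 hf
  obtain ⟨g₀, hg₀, hg₀e⟩ := exists_mor hψ
  obtain ⟨g, hg, hge⟩ := exists_ext hS hF h₁F h₂F hU hc hg₀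
  have hQd : Q ≤ dec T₁ T₂ Q := fun x hx => inf_le_dec hc ⟨hx, hQU hx⟩
  have hgψ : ∀ x : Q, g x = ψ x := fun x => (hge x ⟨x.2, hQU x.2⟩).trans (hg₀e x)
  have hfQ : ∀ x ∈ P, f x ∈ Q := fun x hx => by rw [hfe ⟨x, hx⟩]; exact hφQ _
  have hm₁ : ∀ a ∈ proj T₁ T₂ P, f₁ a ∈ proj T₁ T₂ Q := by
    intro a ha
    obtain ⟨haT, b, hb, hab⟩ := (mem_proj hc).1 ha
    obtain ⟨φ₁, hφ₁, e₁⟩ := hf₁
    obtain ⟨φ₂, hφ₂, e₂⟩ := hf₂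
    refine (mem_proj hc).2 ⟨e₁ ⟨a, ha⟩ ▸ hom_mem E₁ hφ₁ _, f₂ b,
      e₂ ⟨b, (parts_mem hc haT hb hab).2⟩ ▸ hom_mem E₂ hφ₂ _, ?_⟩
    rw [← hval a haT b hb hab]
    exact hfQ _ hab
  have hm₂ : ∀ b ∈ proj T₂ T₁ P, f₂ b ∈ proj T₂ T₁ Q := by
    intro b hb
    obtain ⟨hbT, a, ha, hba⟩ := (mem_proj hc.symm).1 hb
    have hab : a * b ∈ P := (hc a ha b hbT).symm ▸ hba
    obtain ⟨φ₁, hφ₁, e₁⟩ := hf₁
    obtain ⟨φ₂, hφ₂, e₂⟩ := hf₂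
    have h1 : f₁ a ∈ T₁ := e₁ ⟨a, (parts_mem hc ha hbT hab).1⟩ ▸ hom_mem E₁ hφ₁ _
    have h2 : f₂ b ∈ T₂ := e₂ ⟨b, hb⟩ ▸ hom_mem E₂ hφ₂ _
    refine (mem_proj hc.symm).2 ⟨h2, f₁ a, h1, ?_⟩
    rw [← hc _ h1 _ h2, ← hval a ha b hbT hab]
    exact hfQ _ hab
  set P' := (P.subgroupOf Q).map ψ with hP'
  have hP'x : ∀ y ∈ P', ∃ x ∈ P, x ∈ T₁ ⊔ T₂ ∧ g x = y := by
    rintro _ ⟨x, hx, rfl⟩
    exact ⟨x, hx, hQU x.2, hgψ x⟩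
  obtain ⟨f₁', hf₁', h₁'⟩ := transport_side h₁ hc h₂F hPQ hf₁ hm₁ hg le_sup_left le_sup_right hP'x
  obtain ⟨f₂', hf₂', h₂'⟩ := transport_side h₂ hc.symm h₁F hPQ hf₂ hm₂ hg le_sup_right le_sup_left
    (fun y hy => by
      obtain ⟨x, hx, hxU, he⟩ := hP'x y hy
      exact ⟨x, hx, sup_comm T₁ T₂ ▸ hxU, he⟩)
  obtain ⟨M, hM, -⟩ := hg.exists_img (le_refl (dec T₁ T₂ Q))
  obtain ⟨k, -, hkg, -, -⟩ := hg.exists_inv hM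
  have hP'U : P' ≤ T₁ ⊔ T₂ := fun y hy => by
    obtain ⟨x, hx, hxU, rfl⟩ := hP'x y hy
    exact PPrimeExist.mor_mem_T hU hg (hQd (hPQ hx)) hxU
  have hMor : Mor D P' (fun y => g (f (k y))) := by
    refine (h.iff P' _).2 ⟨hP'U, f₁', f₂', hf₁', hf₂', fun a ha b hb hab => ?_⟩
    obtain ⟨hpa, hpb⟩ := parts_mem hc ha hb hab
    obtain ⟨a₀, ha₀, hga, hf₁a⟩ := h₁' a hpa
    obtain ⟨b₀, hb₀, hgb, hf₂b⟩ := h₂' b hpb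
    obtain ⟨x, hx, hxU, hgx⟩ := hP'x _ hab
    have ha₀' : a₀ ∈ dec T₁ T₂ Q := Subgroup.mem_sup_left (proj_mono hPQ ha₀)
    have hb₀' : b₀ ∈ dec T₁ T₂ Q := Subgroup.mem_sup_right (proj_mono hPQ hb₀)
    have hx₀ : a₀ * b₀ = x := hg.injOn (Subgroup.mul_mem _ ha₀' hb₀') (hQd (hPQ hx))
      (by rw [hg.map_mul ha₀' hb₀', hga, hgb, hgx])
    show g (f (k (a * b))) = _
    rw [← hgx, hkg x (hQd (hPQ hx)), ← hx₀, hval a₀ (proj_le ha₀) b₀ (proj_le hb₀) (hx₀.symm ▸ hx),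
      hg.map_mul (Subgroup.mem_sup_left (hm₁ _ ha₀)) (Subgroup.mem_sup_right (hm₂ _ hb₀)),
      hf₁a, hf₂b]
  obtain ⟨χ, hχ, hχe⟩ := hMor
  refine ⟨χ, hχ, fun x hx => ?_⟩
  rw [hχe]
  show g (f (k (ψ (Subgroup.inclusion hPQ x)))) = ψ ⟨φ x, hφQ x⟩
  rw [← hgψ, hkg _ (hQd (Subgroup.inclusion hPQ x).2), ← hgψ,
    show f ((Subgroup.inclusion hPQ x : Q) : Ω) = φ x from hfe x]

/-- A central product of two normal subsystems meeting in both centres is normal. -/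
theorem isNormalIn_of_centralProduct (hS : IsPGroup p S) (hF : F.IsSaturated p)
    (h₁ : E₁.IsNormalIn F p) (h₂ : E₂.IsNormalIn F p) (hz₁ : T₁ ⊓ T₂ ≤ E₁.center)
    (hz₂ : T₁ ⊓ T₂ ≤ E₂.center) {D : Cfsg.FusionSystem U}
    (hD : IsCentralProductOf E₁ E₂ D) : D.IsNormalIn F p := by
  classical
  obtain ⟨rfl, h⟩ := sys_of_centralProduct hD
  simp only at h
  have hc := h.comm
  have h₁S := le_S h₁
  have h₂S := le_S h₂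
  have : Finite T₁ := finite_of_le h₁S
  have : Finite T₂ := finite_of_le h₂S
  have hy₁ : T₂ ≤ cSub F E₁ p := le_cSub_of_central hS h₁ (closedT h₂) hc hz₁
  have hy₂ : T₁ ≤ cSub F E₂ p :=
    le_cSub_of_central hS h₂ (closedT h₁) hc.symm (inf_comm T₁ T₂ ▸ hz₂)
  have hU : F.StronglyClosed (T₁ ⊔ T₂) :=
    Cfsg.Agent.S5128.result p hS F hF T₁ T₂ (closedT h₁) (closedT h₂)
  have hsat : D.IsSaturated p :=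
    saturated_of_centralProduct (hS.to_le h₁S) (hS.to_le h₂S) h₁.1.1 h₂.1.1 hD
  have hsub := sub_of_sys hS h₁ h₂ hy₁ hy₂ h
  refine ⟨⟨hsat, hF, (invariant_iff_strong hS hF hsub hU).2 (strong_of_sys hS hF h₁ h₂ hU h)⟩, ?_⟩
  intro α hα
  obtain ⟨f, hf, hfe, -⟩ := exists_mor_of_aut le_rfl ⟨α, hα⟩
  obtain ⟨-, f₁, f₂, hf₁, hf₂, hval⟩ := (h.iff _ f).1 hf
  have hT₁ : T₁ ≤ proj T₁ T₂ (T₁ ⊔ T₂) := fun a ha =>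
    ⟨Subgroup.mem_sup_left ⟨Subgroup.mem_sup_left ha, Subgroup.mem_sup_left ha⟩, ha⟩
  have hT₂ : T₂ ≤ proj T₂ T₁ (T₁ ⊔ T₂) := fun b hb =>
    ⟨Subgroup.mem_sup_left ⟨Subgroup.mem_sup_right hb, Subgroup.mem_sup_left hb⟩, hb⟩
  have hmem₁ : ∀ a ∈ T₁, f₁ a ∈ T₁ := fun a ha => by
    obtain ⟨φ, hφ, e⟩ := hf₁
    exact e ⟨a, hT₁ ha⟩ ▸ hom_mem E₁ hφ _
  have hmem₂ : ∀ b ∈ T₂, f₂ b ∈ T₂ := fun b hb => by
    obtain ⟨φ, hφ, e⟩ := hf₂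
    exact e ⟨b, hT₂ hb⟩ ▸ hom_mem E₂ hφ _
  obtain ⟨a₁, ha₁⟩ := exists_aut_of_mor (hf₁.restrict hT₁) (image_eq (hf₁.restrict hT₁) hmem₁)
  obtain ⟨a₂, ha₂⟩ := exists_aut_of_mor (hf₂.restrict hT₂) (image_eq (hf₂.restrict hT₂) hmem₂)
  obtain ⟨g₁, hg₁, hg₁a, hg₁Y, hg₁W, hg₁d⟩ := exists_top_lift hS h₁ h₂S hy₁ a₁.2
  obtain ⟨g₂, hg₂, hg₂a, hg₂Y, hg₂W, hg₂d⟩ := exists_top_lift hS h₂ h₁S hy₂ a₂.2
  rw [sup_comm T₂ T₁] at hg₂ hg₂W hg₂d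
  set W := T₁ ⊔ T₂ ⊔ centralizerIn S (T₁ ⊔ T₂) with hW
  set K := (T₁ ⊔ T₂) ⊓ Subgroup.centralizer ((T₁ ⊔ T₂ : Subgroup Ω) : Set Ω) with hK
  have hg : Mor F W (g₁ ∘ g₂) := hg₂.comp hg₁ hg₂W
  have : Finite W := finite_of_le hg.le
  obtain ⟨β, hβ⟩ := exists_aut_of_mor hg (image_eq hg fun x hx => hg₁W _ (hg₂W x hx))
  refine ⟨β, β.2, fun x => ?_, fun c hc' => ?_⟩
  · rw [hβ]
    show g₁ (g₂ (x : Ω)) = _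
    rw [← hfe x]
    obtain ⟨a, ha, b, hb, hab⟩ := PPrimeExist.mem_sup_commuting hc x.2
    rw [hab, hval a ha b hb (hab ▸ x.2)]
    have hm : ∀ {u : Ω}, u ∈ T₁ ⊔ T₂ → u ∈ W := fun hu => Subgroup.mem_sup_left hu
    have hb' : g₂ b ∈ T₂ := by rw [hg₂a ⟨b, hb⟩]; exact SetLike.coe_mem _
    rw [hg₂.map_mul (hm (Subgroup.mem_sup_left ha)) (hm (Subgroup.mem_sup_right hb)), hg₂Y a ha,
      hg₁.map_mul (hm (Subgroup.mem_sup_left ha)) (hm (Subgroup.mem_sup_right hb')),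
      hg₁Y _ hb', hg₁a ⟨a, ha⟩, hg₂a ⟨b, hb⟩, ha₁, ha₂]
  · rw [hβ]
    show (c : Ω)⁻¹ * g₁ (g₂ (c : Ω)) ∈ K
    have hk := hg₂d c hc'
    have hkW : (c : Ω)⁻¹ * g₂ (c : Ω) ∈ W := Subgroup.mem_sup_left hk.1
    have e : g₁ (g₂ (c : Ω)) = g₁ c * g₁ ((c : Ω)⁻¹ * g₂ c) := by
      rw [← hg₁.map_mul c.2 hkW, mul_inv_cancel_left]
    rw [e, ← mul_assoc]
    refine K.mul_mem (hg₁d c hc') ?_
    have hUU : ∀ u ∈ T₁ ⊔ T₂, g₁ u ∈ T₁ ⊔ T₂ := fun u hu => mem_of_sup hg₁ le_sup_left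
      (fun t ht => Subgroup.mem_sup_left (hg₁a ⟨t, ht⟩ ▸ SetLike.coe_mem _))
      (fun y hy => Subgroup.mem_sup_right ((hg₁Y y hy).symm ▸ hy)) hu
    refine ⟨hUU _ hk.1, fun u hu => ?_⟩
    have : Finite ↥(T₁ ⊔ T₂) := finite_of_le hU.1
    have himg : g₁ '' ((T₁ ⊔ T₂ : Subgroup Ω) : Set Ω) = (T₁ ⊔ T₂ : Subgroup Ω) :=
      image_eq (hg₁.restrict le_sup_left) hUU
    obtain ⟨w, hw, rfl⟩ : u ∈ g₁ '' ((T₁ ⊔ T₂ : Subgroup Ω) : Set Ω) := himg.symm ▸ hu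
    have hwW : w ∈ W := Subgroup.mem_sup_left hw
    rw [← hg₁.map_mul hwW hkW, ← hg₁.map_mul hkW hwW, hk.2 w hw]

end CfsgLib.Fus.Prod72
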