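import Cfsg.Agent.Fus.Invariant
import Cfsg.Agent.Fusion.Alperin.Criteria
import Cfsg.Agent.Fus.PPrimeExist.Displacement
import Cfsg.Agent.Fus.NormalCentralizer.Tools
import Mathlib.GroupTheory.Nilpotent

/-!
Two commuting strongly closed subgroups: a map between subgroups of their product extends to the
product of the two projections.
-/

set_option autoImplicit false
set_option linter.unusedSectionVars false

namespace CfsgLib.Fus.Prod72

open Cfsg Cfsg.FusionSystem CfsgLib.Fus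

variable {Ω : Type*} [Group Ω] {S T₁ T₂ P Q : Subgroup Ω} {p : ℕ}

/-- The projection to `T₁` of the part of `P` inside the product. -/
def proj (T₁ T₂ P : Subgroup Ω) : Subgroup Ω := ((P ⊓ (T₁ ⊔ T₂)) ⊔ T₂) ⊓ T₁

/-- The product of the two projections. -/
def dec (T₁ T₂ P : Subgroup Ω) : Subgroup Ω := proj T₁ T₂ P ⊔ proj T₂ T₁ P

theorem proj_le : proj T₁ T₂ P ≤ T₁ := inf_le_right

theorem proj_mono (h : P ≤ Q) : proj T₁ T₂ P ≤ proj T₁ T₂ Q :=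
  inf_le_inf_right _ (sup_le_sup_right (inf_le_inf_right _ h) _)

theorem dec_mono (h : P ≤ Q) : dec T₁ T₂ P ≤ dec T₁ T₂ Q :=
  sup_le_sup (proj_mono h) (proj_mono h)

theorem dec_le : dec T₁ T₂ P ≤ T₁ ⊔ T₂ := sup_le_sup proj_le proj_le

theorem dec_symm : dec T₁ T₂ P = dec T₂ T₁ P := sup_comm _ _

theorem inf_le_proj : T₁ ⊓ T₂ ≤ proj T₁ T₂ P := fun _ h => ⟨Subgroup.mem_sup_right h.2, h.1⟩

/-- The two subgroups commute. -/
def Comm (T₁ T₂ : Subgroup Ω) : Prop := ∀ a ∈ T₁, ∀ b ∈ T₂, a * b = b * a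

theorem Comm.symm (hc : Comm T₁ T₂) : Comm T₂ T₁ := fun b hb a ha => (hc a ha b hb).symm

theorem mem_proj (hc : Comm T₁ T₂) {a : Ω} :
    a ∈ proj T₁ T₂ P ↔ a ∈ T₁ ∧ ∃ b ∈ T₂, a * b ∈ P := by
  have hn : P ⊓ (T₁ ⊔ T₂) ≤ Subgroup.normalizer (T₂ : Set Ω) := by
    have key : ∀ x ∈ T₁ ⊔ T₂, ∀ t ∈ T₂, x * t * x⁻¹ ∈ T₂ := by
      intro x hx t ht
      obtain ⟨u, hu, v, hv, rfl⟩ := PPrimeExist.mem_sup_commuting hc hx
      have h1 : v * t * v⁻¹ ∈ T₂ := T₂.mul_mem (T₂.mul_mem hv ht) (T₂.inv_mem hv)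
      rw [show u * v * t * (u * v)⁻¹ = u * (v * t * v⁻¹) * u⁻¹ by group, hc u hu _ h1,
        mul_inv_cancel_right]
      exact h1
    intro x hx
    refine Subgroup.mem_normalizer_iff.2 fun t => ⟨fun ht => key x hx.2 t ht, fun ht => ?_⟩
    have := key x⁻¹ (Subgroup.inv_mem _ hx.2) _ ht
    simpa [mul_assoc] using this
  constructor
  · rintro ⟨ha, haT⟩
    have ha' : a ∈ ((P ⊓ (T₁ ⊔ T₂) ⊔ T₂ : Subgroup Ω) : Set Ω) := ha
    rw [Subgroup.coe_mul_of_left_le_normalizer_right _ _ hn] at ha'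
    obtain ⟨x, hx, t, ht, rfl⟩ := ha' 
    refine ⟨haT, t⁻¹, T₂.inv_mem ht, ?_⟩
    rw [mul_inv_cancel_right]
    exact hx.1
  · rintro ⟨ha, b, hb, hab⟩
    refine ⟨?_, ha⟩
    rw [show a = a * b * b⁻¹ by group]
    exact Subgroup.mul_mem _ (Subgroup.mem_sup_left ⟨hab, Subgroup.mul_mem _
      (Subgroup.mem_sup_left ha) (Subgroup.mem_sup_right hb)⟩)
      (Subgroup.mem_sup_right (T₂.inv_mem hb))

theorem parts_mem (hc : Comm T₁ T₂) {a b : Ω} (ha : a ∈ T₁) (hb : b ∈ T₂) (hab : a * b ∈ P) :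
    a ∈ proj T₁ T₂ P ∧ b ∈ proj T₂ T₁ P :=
  ⟨(mem_proj hc).2 ⟨ha, b, hb, hab⟩, (mem_proj hc.symm).2 ⟨hb, a, ha, hc a ha b hb ▸ hab⟩⟩

theorem inf_le_dec (hc : Comm T₁ T₂) : P ⊓ (T₁ ⊔ T₂) ≤ dec T₁ T₂ P := by
  rintro x ⟨hxP, hxU⟩
  obtain ⟨a, ha, b, hb, rfl⟩ := PPrimeExist.mem_sup_commuting hc hxU
  obtain ⟨h1, h2⟩ := parts_mem hc ha hb hxP
  exact Subgroup.mul_mem _ (Subgroup.mem_sup_left h1) (Subgroup.mem_sup_right h2)

section Radical

variable [Finite S] [Fact p.Prime] {F : Cfsg.FusionSystem S}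

/-- A centric radical subgroup contains its projections. -/
theorem proj_le_radical (hS : IsPGroup p S) (h₁ : F.StronglyClosed T₁) (h₂ : F.StronglyClosed T₂)
    (hU : F.StronglyClosed (T₁ ⊔ T₂)) (hc : Comm T₁ T₂) {R : Subgroup Ω} (hRc : F.IsCentric R)
    (hRr : F.IsRadical p R) : proj T₁ T₂ R ≤ R := by
  classical
  have hRS := hRc.1
  have hconj : ∀ {X : Subgroup Ω}, F.StronglyClosed X → ∀ {g x : Ω}, g ∈ S → x ∈ X →
      g * x * g⁻¹ ∈ X := fun hX g x hg hx =>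
    hX.2 _ le_rfl _ (F.conj_mem hX.1 hg) ⟨x, hx⟩
  have hRn : R ≤ Subgroup.normalizer (proj T₁ T₂ R : Set Ω) := by
    have key : ∀ r ∈ R, ∀ a ∈ proj T₁ T₂ R, r * a * r⁻¹ ∈ proj T₁ T₂ R := by
      intro r hr a ha
      obtain ⟨haT, b, hb, hab⟩ := (mem_proj hc).1 ha
      refine (mem_proj hc).2 ⟨hconj h₁ (hRS hr) haT, r * b * r⁻¹, hconj h₂ (hRS hr) hb, ?_⟩
      rw [show r * a * r⁻¹ * (r * b * r⁻¹) = r * (a * b) * r⁻¹ by group]
      exact R.mul_mem (R.mul_mem hr hab) (R.inv_mem hr)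
    intro r hr
    refine Subgroup.mem_normalizer_iff.2 fun a => ⟨fun ha => key r hr a ha, fun ha => ?_⟩
    have := key r⁻¹ (R.inv_mem hr) _ ha
    simpa [mul_assoc] using this
  refine Fusion.Alperin.le_of_normalizing_mem hS (proj_le.trans h₁.1) hRS hRn fun g hg hgR => ?_
  obtain ⟨hgT, b, hb, hgb⟩ := (mem_proj hc).1 hg
  set M : Subgroup Ω := R ⊓ (T₁ ⊔ T₂) with hM
  have hMS : M ≤ S := inf_le_left.trans hRS
  have : Finite M := finite_of_le hMS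
  have : Group.IsNilpotent M := (hS.to_le hMS).isNilpotent
  obtain ⟨m, hm⟩ : ∃ m, Subgroup.upperCentralSeries M m = ⊤ :=
    ⟨_, Subgroup.upperCentralSeries_nilpotencyClass (G := M)⟩
  let L : ℕ → Subgroup Ω := fun i =>
    if i ≤ m then (Subgroup.upperCentralSeries M i).map M.subtype ⊓ T₁
    else if i = m + 1 then M else S
  refine Fusion.Alperin.mem_of_stabilizes_series hS hRc hRr ⟨h₁.1 hgT, hgR⟩ (m + 2) L ?_ ?_ ?_ ?_ ?_
  · simp [L]
  · simpa [L, show ¬ (m + 2 ≤ m) by omega] using hRS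
  · intro i j hij
    simp only [L]
    split_ifs with h1 h2 h3 h4 h5 h6
    · exact inf_le_inf_right _ (Subgroup.map_mono (Subgroup.upperCentralSeries_mono M hij))
    · exact inf_le_left.trans (Subgroup.map_subtype_le _)
    · exact (inf_le_left.trans (Subgroup.map_subtype_le _)).trans hMS
    all_goals first
      | exact le_rfl
      | exact hMS
      | omega
  · intro i a ha x hx
    have hφ := (mem_autGroup_iff F hRS).1 ha
    have hMa : ∀ y : R, (y : Ω) ∈ M → ((a y : R) : Ω) ∈ M := fun y hy =>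
      ⟨(a y).2, Fusion.Alperin.map_mem_of_stronglyClosed hU hφ (x := y) hy.2⟩
    simp only [L] at hx ⊢
    split_ifs at hx ⊢ with h1 h2
    · obtain ⟨⟨z, hz, hzx⟩, hxT⟩ := hx
      refine ⟨?_, Fusion.Alperin.map_mem_of_stronglyClosed h₁ hφ (x := x) hxT⟩
      -- the induced automorphism of `M`
      let φM : M →* M := MonoidHom.mk'
        (fun y => ⟨((a ⟨y, y.2.1⟩ : R) : Ω), hMa ⟨y, y.2.1⟩ y.2⟩) fun y w => Subtype.ext (by
          show ((a (⟨y, y.2.1⟩ * ⟨w, w.2.1⟩) : R) : Ω) = _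
          rw [map_mul]; rfl)
      have hinj : Function.Injective φM := fun y w h => by
        have h1 : a ⟨y, y.2.1⟩ = a ⟨w, w.2.1⟩ := Subtype.ext (congrArg (fun t : M => (t : Ω)) h)
        exact Subtype.ext (congrArg (fun t : R => (t : Ω)) (a.injective h1))
      let e : M ≃* M := MulEquiv.ofBijective φM
        ((Finite.injective_iff_bijective).1 hinj)
      refine ⟨e z, ?_, ?_⟩
      · have := (Subgroup.characteristic_iff_comap_eq.1
          (inferInstance : (Subgroup.upperCentralSeries M i).Characteristic) e).ge hz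
        exact this
      · show ((a ⟨(z : Ω), z.2.1⟩ : R) : Ω) = _
        rw [show (⟨(z : Ω), z.2.1⟩ : R) = x from Subtype.ext hzx]
    · exact hMa x hx
    · exact hRS (a x).2
  · intro i hi x hxR hx
    simp only [L] at hx ⊢
    have hxS := hRS hxR
    have hcT : x⁻¹ * (g * x * g⁻¹) ∈ T₁ := by
      have := T₁.mul_mem (hconj h₁ (S.inv_mem hxS) hgT) (T₁.inv_mem hgT)
      rw [inv_inv] at this
      simpa [mul_assoc] using this
    have hcR : x⁻¹ * (g * x * g⁻¹) ∈ R :=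
      R.mul_mem (R.inv_mem hxR) ((Subgroup.mem_normalizer_iff.1 hgR x).1 hxR)
    have hcM : x⁻¹ * (g * x * g⁻¹) ∈ M := ⟨hcR, Subgroup.mem_sup_left hcT⟩
    rcases Nat.lt_trichotomy i m with h | h | h
    · rw [if_pos (by omega : i + 1 ≤ m)] at hx
      rw [if_pos h.le]
      refine ⟨?_, hcT⟩
      obtain ⟨⟨z, hz, rfl⟩, hxT⟩ := hx
      let y : M := ⟨g * b, hgb, Subgroup.mul_mem _ (Subgroup.mem_sup_left hgT)
        (Subgroup.mem_sup_right hb)⟩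
      have hcomm := Subgroup.mem_upperCentralSeries_succ_iff.1 (Subgroup.inv_mem _ hz) y
      refine ⟨_, hcomm, ?_⟩
      show (z : Ω)⁻¹ * (g * b) * ((z : Ω)⁻¹)⁻¹ * (g * b)⁻¹ = _
      have e : b * (z : Ω) * b⁻¹ = (z : Ω) := by
        have h' : (z : Ω) * b = b * (z : Ω) := hc _ hxT b hb
        rw [← h', mul_inv_cancel_right]
      rw [inv_inv, show (z : Ω)⁻¹ * (g * b) * (z : Ω) * (g * b)⁻¹ =
        (z : Ω)⁻¹ * (g * (b * (z : Ω) * b⁻¹) * g⁻¹) by group, e]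
      rfl
    · subst h
      rw [if_pos le_rfl, hm]
      exact ⟨⟨⟨_, hcM⟩, Subgroup.mem_top _, rfl⟩, hcT⟩
    · obtain rfl : i = m + 1 := by omega
      rw [if_neg (by omega), if_pos rfl]
      exact hcM

/-- A map extends to the product of the projections. -/
theorem exists_ext (hS : IsPGroup p S) (hF : F.IsSaturated p) (h₁ : F.StronglyClosed T₁)
    (h₂ : F.StronglyClosed T₂) (hU : F.StronglyClosed (T₁ ⊔ T₂)) (hc : Comm T₁ T₂) {f : Ω → Ω}
    (hf : Mor F P f) :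
    ∃ g, Mor F (dec T₁ T₂ P) g ∧ ∀ x ∈ P ⊓ (T₁ ⊔ T₂), g x = f x := by
  classical
  obtain ⟨φ, hφ, e⟩ := hf
  suffices h : ∃ g, Mor F (dec T₁ T₂ P) g ∧ ∀ x : P, (x : Ω) ∈ T₁ ⊔ T₂ → g x = φ x by
    obtain ⟨g, hg, hge⟩ := h
    exact ⟨g, hg, fun x hx => (hge ⟨x, hx.1⟩ hx.2).trans (e ⟨x, hx.1⟩)⟩
  clear e f
  refine Fusion.Alperin.hom_induction hS hF
    (C := fun P φ => ∃ g, Mor F (dec T₁ T₂ P) g ∧ ∀ x : P, (x : Ω) ∈ T₁ ⊔ T₂ → g x = φ x)
    ?_ ?_ ?_ ?_ hφ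
  · intro R hR α hα
    obtain ⟨g, hg, hge, -⟩ := exists_mor_of_aut hR.centric.1 ⟨α, hα⟩
    have hle : dec T₁ T₂ R ≤ R := sup_le
      (proj_le_radical hS h₁ h₂ hU hc hR.centric hR.radical)
      (proj_le_radical hS h₂ h₁ (sup_comm T₁ T₂ ▸ hU) hc.symm hR.centric hR.radical)
    exact ⟨g, hg.restrict hle, fun x _ => hge x⟩
  · intro A B hAB ψ _ h
    obtain ⟨g, hg, hge⟩ := h
    exact ⟨g, hg.restrict (dec_mono hAB), fun x hx => hge (Subgroup.inclusion hAB x) hx⟩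
  · intro A B φ ψ hφ hψ h hA hB
    obtain ⟨g, hg, hge⟩ := hA
    obtain ⟨k, hk, hke⟩ := hB
    have hmapU : ∀ x : A, (x : Ω) ∈ T₁ ⊔ T₂ → φ x ∈ T₁ ⊔ T₂ := fun x hx =>
      Fusion.Alperin.map_mem_of_stronglyClosed hU hφ hx
    have hpre : ∀ {X Y : Subgroup Ω}, F.StronglyClosed X → F.StronglyClosed Y → Comm X Y →
        proj X Y A ≤ dec T₁ T₂ A → proj Y X A ≤ dec T₁ T₂ A → X ⊔ Y = T₁ ⊔ T₂ →
        ∀ a ∈ proj X Y A, g a ∈ proj X Y B := by
      intro X Y hX hY hXY hl hl' hsup a ha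
      obtain ⟨haX, b, hb, hab⟩ := (mem_proj hXY).1 ha
      have hbm := hl' (parts_mem hXY haX hb hab).2
      have hU' : a * b ∈ T₁ ⊔ T₂ :=
        hsup ▸ Subgroup.mul_mem _ (Subgroup.mem_sup_left haX) (Subgroup.mem_sup_right hb)
      refine (mem_proj hXY).2
        ⟨PPrimeExist.mor_mem_T hX hg (hl ha) haX, g b, PPrimeExist.mor_mem_T hY hg hbm hb, ?_⟩
      rw [← hg.map_mul (hl ha) hbm, hge ⟨a * b, hab⟩ hU']
      exact h _
    have hmem : ∀ x ∈ dec T₁ T₂ A, g x ∈ dec T₁ T₂ B := fun x hx =>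
      NormalCent.mem_of_sup hg le_rfl
        (fun a ha => Subgroup.mem_sup_left (hpre h₁ h₂ hc le_sup_left le_sup_right rfl a ha))
        (fun a ha => Subgroup.mem_sup_right
          (hpre h₂ h₁ hc.symm le_sup_right le_sup_left (sup_comm _ _) a ha)) hx
    refine ⟨k ∘ g, hg.comp hk hmem, fun x hx => ?_⟩
    show k (g x) = ψ ⟨φ x, h x⟩
    rw [hge x hx]
    exact hke ⟨φ x, h x⟩ (hmapU x hx)
  · intro A B φ ψ hφ hψ hr hinv hA
    obtain ⟨g, hg, hge⟩ := hA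
    obtain ⟨M, hM, -⟩ := hg.exists_img (le_refl (dec T₁ T₂ A))
    obtain ⟨k, hk, hkg, -, -⟩ := hg.exists_inv hM
    have hgM : ∀ x ∈ dec T₁ T₂ A, g x ∈ M := fun x hx => by
      show _ ∈ (M : Set Ω)
      rw [← hM]
      exact ⟨x, hx, rfl⟩
    -- every element of `B` in the product is an image
    have himg : ∀ y : B, (y : Ω) ∈ T₁ ⊔ T₂ → ∃ x : A, (x : Ω) ∈ T₁ ⊔ T₂ ∧ φ x = (y : Ω) := by
      intro y hy
      obtain ⟨x, hx⟩ : (y : Ω) ∈ φ.range := hr.symm ▸ y.2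
      refine ⟨x, ?_, hx⟩
      have h1 := Fusion.Alperin.map_mem_of_stronglyClosed hU hψ (x := y) hy
      rw [show y = ⟨φ x, hx.symm ▸ y.2⟩ from Subtype.ext hx.symm, hinv x] at h1
      exact h1
    have hinf : T₁ ⊓ T₂ ≤ M := by
      intro z hz
      have hle : T₁ ⊓ T₂ ≤ dec T₁ T₂ A := inf_le_proj.trans le_sup_left
      have : Finite ↥(T₁ ⊓ T₂) := finite_of_le (inf_le_left.trans h₁.1)
      have himg2 : g '' ((T₁ ⊓ T₂ : Subgroup Ω) : Set Ω) = (T₁ ⊓ T₂ : Subgroup Ω) :=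
        NormalCent.image_eq (hg.restrict hle) fun x hx =>
          ⟨PPrimeExist.mor_mem_T h₁ hg (hle hx) hx.1, PPrimeExist.mor_mem_T h₂ hg (hle hx) hx.2⟩
      obtain ⟨w, hw, rfl⟩ : z ∈ g '' ((T₁ ⊓ T₂ : Subgroup Ω) : Set Ω) := himg2.symm ▸ hz
      exact hgM w (hle hw)
    have hpart : ∀ {X Y : Subgroup Ω}, F.StronglyClosed X → F.StronglyClosed Y → Comm X Y →
        proj X Y A ≤ dec T₁ T₂ A → proj Y X A ≤ dec T₁ T₂ A → X ⊔ Y = T₁ ⊔ T₂ →
        X ⊓ Y ≤ M → proj X Y B ≤ M := by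
      intro X Y hX hY hXY hl hl' hsup hinf' a ha
      obtain ⟨haX, b, hb, hab⟩ := (mem_proj hXY).1 ha
      have hU' : a * b ∈ T₁ ⊔ T₂ :=
        hsup ▸ Subgroup.mul_mem _ (Subgroup.mem_sup_left haX) (Subgroup.mem_sup_right hb)
      obtain ⟨x, hxU, hx⟩ := himg ⟨a * b, hab⟩ hU'
      obtain ⟨a', ha', b', hb', hx'⟩ :=
        PPrimeExist.mem_sup_commuting hXY (hsup.symm ▸ hxU : (x : Ω) ∈ X ⊔ Y)
      obtain ⟨hp1, hp2⟩ := parts_mem hXY ha' hb' (hx' ▸ x.2)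
      have h1 := PPrimeExist.mor_mem_T hX hg (hl hp1) ha'
      have h2 := PPrimeExist.mor_mem_T hY hg (hl' hp2) hb'
      have heq : g a' * g b' = a * b := by
        rw [← hg.map_mul (hl hp1) (hl' hp2), ← hx', hge x hxU, hx]
      have hz : (g a')⁻¹ * a ∈ X ⊓ Y := by
        refine ⟨X.mul_mem (X.inv_mem h1) haX, ?_⟩
        rw [show (g a')⁻¹ * a = g b' * b⁻¹ by
          rw [show a = g a' * g b' * b⁻¹ by rw [heq]; group]; group]
        exact Y.mul_mem h2 (Y.inv_mem hb)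
      rw [show a = g a' * ((g a')⁻¹ * a) by group]
      exact M.mul_mem (hgM _ (hl hp1)) (hinf' hz)
    have hdec : dec T₁ T₂ B ≤ M := sup_le
      (hpart h₁ h₂ hc le_sup_left le_sup_right rfl hinf)
      (hpart h₂ h₁ hc.symm le_sup_right le_sup_left (sup_comm _ _) (inf_comm T₁ T₂ ▸ hinf))
    refine ⟨k, hk.restrict hdec, fun y hy => ?_⟩
    obtain ⟨x, hxU, hx⟩ := himg y hy
    rw [← hx, ← hge x hxU, hkg x (inf_le_dec hc ⟨x.2, hxU⟩)]
    rw [show y = ⟨φ x, hx.symm ▸ y.2⟩ from Subtype.ext hx.symm, hinv x]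

end Radical

end CfsgLib.Fus.Prod72
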