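import Cfsg.Agent.Fus.Prod72.System
import Cfsg.Agent.Fus.Comp89.Mono
import Cfsg.Agent.Fus.Invariant
import Cfsg.Agent.Fus.NormalCentralizer.Tools

/-!
The factors of a central product, and the normal subsystems of a factor, are normal in it.
-/

set_option autoImplicit false
set_option linter.unusedSectionVars false

namespace CfsgLib.Fus.Prod72

open Cfsg Cfsg.FusionSystem CfsgLib.Fus CfsgLib.NormalCent

variable {Ω : Type*} [Group Ω] {T₁ T₂ U V P : Subgroup Ω} {p : ℕ} {E₁ : Cfsg.FusionSystem T₁}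
  {E₂ : Cfsg.FusionSystem T₂} {D : Cfsg.FusionSystem (T₁ ⊔ T₂)}

/-- A map fixes the central elements in its source. -/
theorem mor_fix_center [Finite T₁] {N : Subgroup Ω} {f : Ω → Ω} (hf : Mor E₁ N f) {z : Ω}
    (hzN : z ∈ N) (hz : z ∈ E₁.center) : f z = z := by
  obtain ⟨φ, hφ, e⟩ := hf
  obtain ⟨ψ, -, h1, h2⟩ := (Cfsg.Agent.S5144.result E₁).2 _ φ hφ
  rw [← e ⟨z, hzN⟩, ← h1, show Subgroup.inclusion le_sup_left (⟨z, hzN⟩ : N) =
    Subgroup.inclusion (le_sup_right : E₁.center ≤ N ⊔ E₁.center) ⟨z, hz⟩ from rfl, h2]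

variable [Finite T₁] [Finite T₂]

/-- A pair of maps gives a map of the central product. -/
theorem exists_mor_pair (h : Sys E₁ E₂ D) (hz₁ : T₁ ⊓ T₂ ≤ E₁.center)
    (hz₂ : T₁ ⊓ T₂ ≤ E₂.center) (hP : P ≤ T₁ ⊔ T₂) {f₁ f₂ : Ω → Ω}
    (hf₁ : Mor E₁ (proj T₁ T₂ P) f₁) (hf₂ : Mor E₂ (proj T₂ T₁ P) f₂) :
    ∃ f, Mor D P f ∧ ∀ a ∈ T₁, ∀ b ∈ T₂, a * b ∈ P → f (a * b) = f₁ a * f₂ b := by
  classical
  have hc := h.comm
  let f : Ω → Ω := fun x =>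
    if hx : ∃ a ∈ T₁, ∃ b ∈ T₂, x = a * b then f₁ hx.choose * f₂ hx.choose_spec.2.choose else x
  have hf : ∀ a ∈ T₁, ∀ b ∈ T₂, a * b ∈ P → f (a * b) = f₁ a * f₂ b := by
    intro a ha b hb hab
    have hx : ∃ a' ∈ T₁, ∃ b' ∈ T₂, a * b = a' * b' := ⟨a, ha, b, hb, rfl⟩
    show (if hx : ∃ a' ∈ T₁, ∃ b' ∈ T₂, a * b = a' * b' then
      f₁ hx.choose * f₂ hx.choose_spec.2.choose else a * b) = _
    rw [dif_pos hx]
    suffices key : ∀ a' b', a' ∈ T₁ → b' ∈ T₂ → a * b = a' * b' → f₁ a' * f₂ b' = f₁ a * f₂ b from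
      key _ _ hx.choose_spec.1 hx.choose_spec.2.choose_spec.1 hx.choose_spec.2.choose_spec.2
    intro a' b' ha' hb' heq
    have hz : a⁻¹ * a' ∈ T₁ ⊓ T₂ := by
      refine ⟨T₁.mul_mem (T₁.inv_mem ha) ha', ?_⟩
      rw [show a⁻¹ * a' = b * b'⁻¹ by rw [show a' = a * b * b'⁻¹ by rw [heq]; group]; group]
      exact T₂.mul_mem hb (T₂.inv_mem hb')
    have hb'' : b = a⁻¹ * a' * b' := by rw [mul_assoc, ← heq, inv_mul_cancel_left]
    obtain ⟨hpa, hpb⟩ := parts_mem hc ha hb hab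
    obtain ⟨hpa', hpb'⟩ := parts_mem hc ha' hb' (heq ▸ hab)
    have hz1 : a⁻¹ * a' ∈ proj T₁ T₂ P := inf_le_proj hz
    have hz2 : a⁻¹ * a' ∈ proj T₂ T₁ P := inf_le_proj ⟨hz.2, hz.1⟩
    rw [show f₁ a' = f₁ a * f₁ (a⁻¹ * a') by rw [← hf₁.map_mul hpa hz1, mul_inv_cancel_left],
      mor_fix_center hf₁ hz1 (hz₁ hz), hb'', hf₂.map_mul hz2 hpb',
      mor_fix_center hf₂ hz2 (hz₂ hz), mul_assoc]
  exact ⟨f, (h.iff P f).2 ⟨hP, f₁, f₂, hf₁, hf₂, hf⟩, hf⟩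

/-- The maps of the central product out of a subgroup of the second factor. -/
theorem mor_iff_right (h : Sys E₁ E₂ D) (hz₁ : T₁ ⊓ T₂ ≤ E₁.center)
    (hz₂ : T₁ ⊓ T₂ ≤ E₂.center) (hP : P ≤ T₂) {f : Ω → Ω} : Mor D P f ↔ Mor E₂ P f := by
  have hc := h.comm
  constructor
  · intro hf
    obtain ⟨-, f₁, f₂, hf₁, hf₂, hval⟩ := (h.iff P f).1 hf
    have hle : P ≤ proj T₂ T₁ P := fun x hx =>
      (mem_proj hc.symm).2 ⟨hP hx, 1, one_mem _, by rwa [mul_one]⟩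
    refine (hf₂.restrict hle).congr fun x hx => ?_
    have h1 := hval 1 (one_mem _) x (hP hx) (by rwa [one_mul])
    rwa [one_mul, map_one_of_mor hf₁, one_mul] at h1
  · intro hf
    obtain ⟨φ, hφ, e⟩ := hf
    obtain ⟨ψ, hψ, h1, h2⟩ := (Cfsg.Agent.S5144.result E₂).2 P φ hφ
    obtain ⟨g, hg, hge⟩ := exists_mor hψ
    have hle : proj T₂ T₁ P ≤ P ⊔ E₂.center := by
      intro b hb
      obtain ⟨hbT, a, ha, hba⟩ := (mem_proj hc.symm).1 hb
      have haT : a ∈ T₂ := by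
        have := T₂.mul_mem (T₂.inv_mem hbT) (hP hba)
        rwa [inv_mul_cancel_left] at this
      rw [show b = b * a * a⁻¹ by group]
      exact Subgroup.mul_mem _ (Subgroup.mem_sup_left hba)
        (Subgroup.mem_sup_right (Subgroup.inv_mem _ (hz₂ ⟨ha, haT⟩)))
    have hid : Mor E₁ (proj T₁ T₂ P) id := mor_id proj_le
    obtain ⟨k, hk, hkv⟩ :=
      exists_mor_pair h hz₁ hz₂ (hP.trans le_sup_right) hid (hg.restrict hle)
    refine hk.congr fun x hx => ?_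
    have h3 := hkv 1 (one_mem _) x (hP hx) (by rwa [one_mul])
    rw [one_mul, id_eq, one_mul] at h3
    rw [h3, hge ⟨x, Subgroup.mem_sup_left hx⟩, ← e ⟨x, hx⟩]
    exact (h1 ⟨x, hx⟩).symm

variable [Fact p.Prime]

/-- A normal subsystem of the second factor is normal in the central product. -/
theorem isNormalIn_of_factor (hT₁ : IsPGroup p T₁) (hT₂ : IsPGroup p T₂)
    (h₁ : E₁.IsSaturated p) (hz₁ : T₁ ⊓ T₂ ≤ E₁.center) (hz₂ : T₁ ⊓ T₂ ≤ E₂.center)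
    {W : Cfsg.FusionSystem U} (hW : IsCentralProductOf E₁ E₂ W) {C : Cfsg.FusionSystem V}
    (hC : C.IsNormalIn E₂ p) : C.IsNormalIn W p := by
  classical
  obtain ⟨rfl, h⟩ := sys_of_centralProduct hW
  simp only at h
  obtain ⟨⟨hCs, h₂, hinv⟩, hext⟩ := hC
  have hVT : V ≤ T₂ := hinv.2.1.1
  have hc := h.comm
  have hWs : W.IsSaturated p := saturated_of_centralProduct hT₁ hT₂ h₁ h₂ hW
  have : Finite ↥(T₁ ⊔ T₂) := by
    have := finite_prod (T₁ := T₁) (T₂ := T₂)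
    obtain ⟨_, _, _, θ, _, _, _, _, _, hfac⟩ := hW
    rw [← hfac.2.2.1]
    exact Finite.of_surjective _ θ.rangeRestrict_surjective
  have hWp : IsPGroup p ↥(T₁ ⊔ T₂) := by
    obtain ⟨_, _, _, θ, _, _, _, _, _, hfac⟩ := hW
    rw [← hfac.2.2.1]
    exact (isPGroup_prod hT₁ hT₂).of_surjective θ.rangeRestrict θ.rangeRestrict_surjective
  have hVU : V ≤ T₁ ⊔ T₂ := hVT.trans le_sup_right
  have hiff : ∀ {R : Subgroup Ω}, R ≤ T₂ → ∀ φ : R →* Ω, φ ∈ W.Hom R ↔ φ ∈ E₂.Hom R := by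
    intro R hR φ
    constructor
    · intro hφ
      obtain ⟨f, hf, e⟩ := exists_mor hφ
      exact Comp89.hom_of_mor ((mor_iff_right h hz₁ hz₂ hR).1 hf) fun x => (e x).symm
    · intro hφ
      obtain ⟨f, hf, e⟩ := exists_mor hφ
      exact Comp89.hom_of_mor ((mor_iff_right h hz₁ hz₂ hR).2 hf) fun x => (e x).symm
  have hsub : C.IsSubsystemOf W := fun R φ hφ =>
    (hiff ((hom_le C hφ).trans hVT) φ).2 (hinv.1 R hφ)
  have hcl : W.StronglyClosed V :=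
    ⟨hVU, fun R hR φ hφ x => hinv.2.1.2 R hR φ ((hiff (hR.trans hVT) φ).1 hφ) x⟩
  have hs := strong_of_invariant hVT hinv
  refine ⟨⟨hCs, hWs, (invariant_iff_strong hWp hWs hsub hcl).2 fun R Q hRQ hQ φ hφ hφQ ψ hψ =>
    hs R Q hRQ hQ φ hφ hφQ ψ ((hiff (hQ.trans hVT) ψ).1 hψ)⟩, fun α hα => ?_⟩
  obtain ⟨β, hβ, hβe, hβd⟩ := hext α hα
  have hM₂ : V ⊔ centralizerIn T₂ V ≤ T₂ := sup_le hVT (centralizerIn_le V)
  obtain ⟨g, hg, hge, -⟩ := exists_mor_of_aut hM₂ ⟨β, hβ⟩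
  set M := V ⊔ centralizerIn (T₁ ⊔ T₂) V with hM
  have hMU : M ≤ T₁ ⊔ T₂ := sup_le hVU (centralizerIn_le V)
  have hpart : ∀ c ∈ centralizerIn (T₁ ⊔ T₂) V, ∀ a ∈ T₁, ∀ b ∈ T₂, c = a * b →
      b ∈ centralizerIn T₂ V := by
    intro c hc' a ha b hb hab
    refine ⟨hb, fun v hv => ?_⟩
    have h1 := hc'.2 v hv
    rw [hab, ← mul_assoc, ← hc a ha v (hVT hv), mul_assoc, mul_assoc] at h1
    exact mul_left_cancel h1
  have hle : proj T₂ T₁ M ≤ V ⊔ centralizerIn T₂ V := by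
    intro b hb
    obtain ⟨hbT, a, ha, hba⟩ := (mem_proj hc.symm).1 hb
    have hn : centralizerIn (T₁ ⊔ T₂) V ≤ Subgroup.normalizer (V : Set Ω) := fun c hc' =>
      Subgroup.mem_normalizer_iff.2 fun v => ⟨fun hv => by
        rw [← hc'.2 v hv, mul_inv_cancel_right]; exact hv, fun hv => by
        have := hc'.2 _ hv
        rw [inv_mul_cancel_right] at this
        exact (mul_left_cancel this) ▸ hv⟩
    have hba' : b * a ∈ ((V ⊔ centralizerIn (T₁ ⊔ T₂) V : Subgroup Ω) : Set Ω) := hba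
    rw [Subgroup.coe_mul_of_right_le_normalizer_left _ _ hn] at hba'
    obtain ⟨v, hv, c, hc', hvc⟩ := hba'
    have hc2 : c = a * (v⁻¹ * b) := by
      rw [show c = v⁻¹ * (b * a) by rw [← hvc]; group, ← mul_assoc,
        ← hc a ha _ (T₂.mul_mem (T₂.inv_mem (hVT hv)) hbT)]
    have := hpart c hc' a ha _ (T₂.mul_mem (T₂.inv_mem (hVT hv)) hbT) hc2
    rw [show b = v * (v⁻¹ * b) by group]
    exact Subgroup.mul_mem _ (Subgroup.mem_sup_left hv) (Subgroup.mem_sup_right this)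
  have hid : Mor E₁ (proj T₁ T₂ M) id := mor_id proj_le
  obtain ⟨f, hf, hfv⟩ := exists_mor_pair h hz₁ hz₂ hMU hid (hg.restrict hle)
  have : Finite M := finite_of_le hMU
  have hfV : ∀ x : V, f x = ((α x : V) : Ω) := fun x => by
    have h1 := hfv 1 (one_mem _) x (hVT x.2) (by rw [one_mul]; exact Subgroup.mem_sup_left x.2)
    rw [one_mul, id_eq, one_mul] at h1
    rw [h1, hge ⟨x, Subgroup.mem_sup_left x.2⟩]
    exact hβe x
  have hfC : ∀ c ∈ centralizerIn (T₁ ⊔ T₂) V,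
      c⁻¹ * f c ∈ V ⊓ Subgroup.centralizer (V : Set Ω) := by
    intro c hc'
    obtain ⟨a, ha, b, hb, hab⟩ := PPrimeExist.mem_sup_commuting hc hc'.1
    have hbC := hpart c hc' a ha b hb hab
    subst hab
    rw [hfv a ha b hb (Subgroup.mem_sup_right hc'), id_eq,
      show (a * b)⁻¹ * (a * g b) = b⁻¹ * g b by group, hge ⟨b, Subgroup.mem_sup_right hbC⟩]
    exact hβd ⟨b, Subgroup.mem_sup_right hbC⟩ hbC
  have hmap : ∀ x ∈ M, f x ∈ M := fun x hx => mem_of_sup hf le_rfl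
    (fun v hv => Subgroup.mem_sup_left (hfV ⟨v, hv⟩ ▸ SetLike.coe_mem _))
    (fun c hc' => by
      rw [← mul_inv_cancel_left c (f c)]
      exact M.mul_mem (Subgroup.mem_sup_right hc') (Subgroup.mem_sup_left (hfC c hc').1)) hx
  obtain ⟨γ, hγ⟩ := exists_aut_of_mor hf (image_eq hf hmap)
  exact ⟨γ, γ.2, fun x => (hγ _).trans (hfV x), fun c hc' => by rw [hγ]; exact hfC c hc'⟩

end CfsgLib.Fus.Prod72
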