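import Cfsg.Agent.Fus.Prod72.Closure
import Cfsg.Agent.Fus.Comp89.Mono
import Cfsg.Agent.Fusion.Alperin.Factor
import Cfsg.Agent.Eq.Def_FusionComponents
import Cfsg.Agent.FusProduct.Saturated
import Cfsg.Agent.S5136
import Cfsg.Agent.S5144

/-!
Central products of two systems inside one group: the maps, existence, saturation.
-/

set_option autoImplicit false
set_option linter.unusedSectionVars false

namespace CfsgLib.Fus.Prod72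

open Cfsg Cfsg.FusionSystem CfsgLib.Fus CfsgLib.Fusion.Alperin

variable {Ω : Type*} [Group Ω] {T₁ T₂ U P : Subgroup Ω} {p : ℕ} {E₁ : Cfsg.FusionSystem T₁}
  {E₂ : Cfsg.FusionSystem T₂}

/-- The maps of a product of two systems: `a b ↦ f₁ a * f₂ b` on the projections. -/
def IsPair (E₁ : Cfsg.FusionSystem T₁) (E₂ : Cfsg.FusionSystem T₂) (P : Subgroup Ω)
    (f : Ω → Ω) : Prop :=
  ∃ f₁ f₂, Mor E₁ (proj T₁ T₂ P) f₁ ∧ Mor E₂ (proj T₂ T₁ P) f₂ ∧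
    ∀ a ∈ T₁, ∀ b ∈ T₂, a * b ∈ P → f (a * b) = f₁ a * f₂ b

/-- The description of a central product by pairs of maps. -/
structure Sys (E₁ : Cfsg.FusionSystem T₁) (E₂ : Cfsg.FusionSystem T₂)
    (D : Cfsg.FusionSystem (T₁ ⊔ T₂)) : Prop where
  comm : Comm T₁ T₂
  iff : ∀ (P : Subgroup Ω) (f : Ω → Ω), Mor D P f ↔ P ≤ T₁ ⊔ T₂ ∧ IsPair E₁ E₂ P f

section Theta

variable {θ : ↥(T₁.prod T₂) →* Ω}
  (hl : ∀ (x : Ω) (hx : ((x, 1) : Ω × Ω) ∈ T₁.prod T₂), θ ⟨(x, 1), hx⟩ = x)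
  (hr : ∀ (y : Ω) (hy : ((1, y) : Ω × Ω) ∈ T₁.prod T₂), θ ⟨(1, y), hy⟩ = y)

include hl hr

theorem theta_apply (x : ↥(T₁.prod T₂)) : θ x = (x : Ω × Ω).1 * (x : Ω × Ω).2 := by
  have h1 : (((x : Ω × Ω).1, 1) : Ω × Ω) ∈ T₁.prod T₂ := ⟨x.2.1, one_mem _⟩
  have h2 : ((1, (x : Ω × Ω).2) : Ω × Ω) ∈ T₁.prod T₂ := ⟨one_mem _, x.2.2⟩
  have e : x = ⟨_, h1⟩ * ⟨_, h2⟩ := Subtype.ext (Prod.ext (mul_one _).symm (one_mul _).symm)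
  calc θ x = θ ⟨_, h1⟩ * θ ⟨_, h2⟩ := by rw [← map_mul, ← e]
    _ = _ := by rw [hl, hr]

theorem comm_of_theta : Comm T₁ T₂ := by
  intro a ha b hb
  have h1 : ((a, 1) : Ω × Ω) ∈ T₁.prod T₂ := ⟨ha, one_mem _⟩
  have h2 : ((1, b) : Ω × Ω) ∈ T₁.prod T₂ := ⟨one_mem _, hb⟩
  have e : (⟨_, h1⟩ * ⟨_, h2⟩ : ↥(T₁.prod T₂)) = ⟨_, h2⟩ * ⟨_, h1⟩ :=
    Subtype.ext (Prod.ext ((mul_one a).trans (one_mul a).symm) ((one_mul b).trans (mul_one b).symm))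
  have := congrArg θ e
  rwa [map_mul, map_mul, hl, hr] at this

theorem range_theta : θ.range = T₁ ⊔ T₂ := by
  refine le_antisymm ?_ (sup_le (fun a ha => ⟨⟨(a, 1), ha, one_mem _⟩, hl a _⟩)
    fun b hb => ⟨⟨(1, b), one_mem _, hb⟩, hr b _⟩)
  rintro _ ⟨x, rfl⟩
  rw [theta_apply hl hr]
  exact Subgroup.mul_mem _ (Subgroup.mem_sup_left x.2.1) (Subgroup.mem_sup_right x.2.2)

theorem mem_pre {P : Subgroup Ω} {x : Ω × Ω} :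
    x ∈ preimageAlong θ P ↔ x.1 ∈ T₁ ∧ x.2 ∈ T₂ ∧ x.1 * x.2 ∈ P := by
  rw [mem_preimageAlong_iff]
  constructor
  · rintro ⟨h, hP⟩
    rw [theta_apply hl hr] at hP
    exact ⟨h.1, h.2, hP⟩
  · rintro ⟨h1, h2, h⟩
    exact ⟨⟨h1, h2⟩, by rw [theta_apply hl hr]; exact h⟩

theorem fst_pre (P : Subgroup Ω) :
    (preimageAlong θ P).map (MonoidHom.fst Ω Ω) = proj T₁ T₂ P := by
  ext a
  rw [mem_proj (comm_of_theta hl hr)]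
  constructor
  · rintro ⟨x, hx, rfl⟩
    obtain ⟨h1, h2, h⟩ := (mem_pre hl hr).1 hx
    exact ⟨h1, _, h2, h⟩
  · rintro ⟨h1, b, h2, h⟩
    exact ⟨(a, b), (mem_pre hl hr).2 ⟨h1, h2, h⟩, rfl⟩

theorem snd_pre (P : Subgroup Ω) :
    (preimageAlong θ P).map (MonoidHom.snd Ω Ω) = proj T₂ T₁ P := by
  have hc := comm_of_theta hl hr
  ext b
  rw [mem_proj hc.symm]
  constructor
  · rintro ⟨x, hx, rfl⟩
    obtain ⟨h1, h2, h⟩ := (mem_pre hl hr).1 hx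
    exact ⟨h2, _, h1, hc _ h1 _ h2 ▸ h⟩
  · rintro ⟨h2, a, h1, h⟩
    exact ⟨(a, b), (mem_pre hl hr).2 ⟨h1, h2, (hc _ h1 _ h2).symm ▸ h⟩, rfl⟩

/-- The maps of a factor system of a product. -/
theorem sys_of_factor {Z : Subgroup (Ω × Ω)} {D : Cfsg.FusionSystem (T₁ ⊔ T₂)}
    {D₀ : Cfsg.FusionSystem (T₁.prod T₂)} (hprod : IsProductSystem E₁ E₂ D₀)
    (hfac : D₀.IsFactorSystem Z θ D) : Sys E₁ E₂ D := by
  classical
  have hc := comm_of_theta hl hr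
  refine ⟨hc, fun P f => ⟨?_, ?_⟩⟩
  · rintro ⟨ψ, hψ, e⟩
    obtain ⟨hP, φ, hφ, hle, hφS, hmem, hind⟩ := (hfac.2.2.2 P ψ).1 hψ
    obtain ⟨-, φ₁, hφ₁, φ₂, hφ₂, hpr⟩ := (hprod _ φ).1 hφ
    obtain ⟨f₁, hf₁, hf₁e⟩ := exists_mor hφ₁
    obtain ⟨f₂, hf₂, hf₂e⟩ := exists_mor hφ₂
    rw [fst_pre hl hr] at hf₁
    rw [snd_pre hl hr] at hf₂
    refine ⟨hP, f₁, f₂, hf₁, hf₂, fun a ha b hb hab => ?_⟩
    have hx : ((a, b) : Ω × Ω) ∈ preimageAlong θ P := (mem_pre hl hr).2 ⟨ha, hb, hab⟩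
    have h1 := hind ⟨_, hx⟩
    have h2 := hpr ⟨_, hx⟩ ⟨_, hx, rfl⟩ ⟨_, hx, rfl⟩
    rw [← e ⟨a * b, hab⟩,
      show (⟨a * b, hab⟩ : P) = ⟨θ ⟨(a, b), hle hx⟩, hmem ⟨_, hx⟩⟩ from
        Subtype.ext (theta_apply hl hr ⟨(a, b), hle hx⟩).symm, h1, theta_apply hl hr,
      hf₁e ⟨a, _, hx, rfl⟩, hf₂e ⟨b, _, hx, rfl⟩]
    show (φ ⟨(a, b), hx⟩).1 * (φ ⟨(a, b), hx⟩).2 = _
    rw [h2]
  · rintro ⟨hP, f₁, f₂, hf₁, hf₂, hval⟩
    rw [← fst_pre hl hr] at hf₁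
    rw [← snd_pre hl hr] at hf₂
    obtain ⟨φ₁, hφ₁, e₁⟩ := hf₁
    obtain ⟨φ₂, hφ₂, e₂⟩ := hf₂
    have hle : preimageAlong θ P ≤ T₁.prod T₂ := Subgroup.map_subtype_le _
    let φ : (preimageAlong θ P) →* Ω × Ω := MonoidHom.prod
      (φ₁.comp ((MonoidHom.fst Ω Ω).subgroupMap (preimageAlong θ P)))
      (φ₂.comp ((MonoidHom.snd Ω Ω).subgroupMap (preimageAlong θ P)))
    have hφ : φ ∈ D₀.Hom _ :=
      (hprod _ φ).2 ⟨hle, φ₁, hφ₁, φ₂, hφ₂, fun _ _ _ => rfl⟩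
    have hfm : ∀ x ∈ P, ∀ y ∈ P, f (x * y) = f x * f y := by
      intro x hx y hy
      obtain ⟨a, ha, b, hb, rfl⟩ := PPrimeExist.mem_sup_commuting hc (hP hx)
      obtain ⟨a', ha', b', hb', rfl⟩ := PPrimeExist.mem_sup_commuting hc (hP hy)
      have e : a * b * (a' * b') = a * a' * (b * b') := by
        rw [mul_assoc a b, ← mul_assoc b a', ← hc a' ha' b hb]; group
      have hm : a * a' * (b * b') ∈ P := e ▸ P.mul_mem hx hy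
      have m1 : ∀ {c d : Ω}, c ∈ T₁ → d ∈ T₂ → c * d ∈ P →
          c ∈ (preimageAlong θ P).map (MonoidHom.fst Ω Ω) := fun {c d} h1 h2 h =>
        ⟨(c, d), (mem_pre hl hr).2 ⟨h1, h2, h⟩, rfl⟩
      have m2 : ∀ {c d : Ω}, c ∈ T₁ → d ∈ T₂ → c * d ∈ P →
          d ∈ (preimageAlong θ P).map (MonoidHom.snd Ω Ω) := fun {c d} h1 h2 h =>
        ⟨(c, d), (mem_pre hl hr).2 ⟨h1, h2, h⟩, rfl⟩
      rw [e, hval _ (T₁.mul_mem ha ha') _ (T₂.mul_mem hb hb') hm, hval a ha b hb hx,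
        hval a' ha' b' hb' hy,
        show f₁ (a * a') = f₁ a * f₁ a' from by
          rw [← e₁ ⟨a, m1 ha hb hx⟩, ← e₁ ⟨a', m1 ha' hb' hy⟩,
            ← map_mul]
          exact (e₁ (⟨a, m1 ha hb hx⟩ * ⟨a', m1 ha' hb' hy⟩)).symm,
        show f₂ (b * b') = f₂ b * f₂ b' from by
          rw [← e₂ ⟨b, m2 ha hb hx⟩, ← e₂ ⟨b', m2 ha' hb' hy⟩,
            ← map_mul]
          exact (e₂ (⟨b, m2 ha hb hx⟩ * ⟨b', m2 ha' hb' hy⟩)).symm]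
      have := hc (f₁ a') (e₁ ⟨a', m1 ha' hb' hy⟩ ▸ hom_mem E₁ hφ₁ _) (f₂ b)
        (e₂ ⟨b, m2 ha hb hx⟩ ▸ hom_mem E₂ hφ₂ _)
      rw [mul_assoc, ← mul_assoc (f₁ a'), this]
      group
    let ψ : P →* Ω := MonoidHom.mk' (fun x => f x) fun x y => hfm x x.2 y y.2
    refine ⟨ψ, (hfac.2.2.2 P ψ).2 ⟨hP, φ, hφ, hle, hom_mem D₀ hφ,
      fun x => by rw [theta_apply hl hr]; exact ((mem_pre hl hr).1 x.2).2.2, fun x => ?_⟩,
      fun _ => rfl⟩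
    obtain ⟨h1, h2, h3⟩ := (mem_pre hl hr).1 x.2
    simp only [theta_apply hl hr]
    show f ((x : Ω × Ω).1 * (x : Ω × Ω).2) = (φ x).1 * (φ x).2
    rw [hval _ h1 _ h2 h3]
    show _ = φ₁ ⟨(x : Ω × Ω).1, _⟩ * φ₂ ⟨(x : Ω × Ω).2, _⟩
    rw [e₁, e₂]

end Theta

/-- A central product has the description by pairs. -/
theorem sys_of_centralProduct {D : Cfsg.FusionSystem U} (h : IsCentralProductOf E₁ E₂ D) :
    ∃ e : U = T₁ ⊔ T₂, Sys E₁ E₂ (e ▸ D) := by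
  obtain ⟨D₀, hprod, Z, θ, -, -, -, hl, hr, hfac⟩ := h
  obtain rfl : U = T₁ ⊔ T₂ := hfac.2.2.1.symm.trans (range_theta hl hr)
  exact ⟨rfl, sys_of_factor hl hr hprod hfac⟩

variable [Finite T₁] [Finite T₂] [Fact p.Prime]

theorem finite_prod : Finite ↥(T₁.prod T₂) :=
  Finite.of_equiv _ (T₁.prodEquiv T₂).symm.toEquiv

theorem isPGroup_prod (h₁ : IsPGroup p T₁) (h₂ : IsPGroup p T₂) :
    IsPGroup p ↥(T₁.prod T₂) := by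
  intro x
  obtain ⟨i, hi⟩ := h₁ ⟨_, x.2.1⟩
  obtain ⟨j, hj⟩ := h₂ ⟨_, x.2.2⟩
  have hi' : ((x : Ω × Ω).1) ^ p ^ i = 1 := congrArg Subtype.val hi
  have hj' : ((x : Ω × Ω).2) ^ p ^ j = 1 := congrArg Subtype.val hj
  exact ⟨i + j, Subtype.ext (Prod.ext
    (by simp [pow_add, pow_mul, hi']) (by simp [pow_add, pow_mul', hj']))⟩

/-- A subgroup of a central product datum is central, hence strongly closed. -/
theorem closed_of_le_center {S : Subgroup Ω} [Finite S] {F : Cfsg.FusionSystem S} {Z : Subgroup Ω}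
    (hZ : Z ≤ F.center) : F.StronglyClosed Z := by
  refine ⟨hZ.trans (Cfsg.Agent.S5144.result F).1, fun R hR φ hφ x => ?_⟩
  obtain ⟨ψ, -, h1, h2⟩ := (Cfsg.Agent.S5144.result F).2 R φ hφ
  rw [← h1 x, show Subgroup.inclusion le_sup_left x =
    Subgroup.inclusion (le_sup_right : F.center ≤ R ⊔ F.center) ⟨x, hZ (hR x.2)⟩ from rfl, h2]
  exact hR x.2

/-- A central product of saturated systems is saturated. -/
theorem saturated_of_centralProduct (h₁p : IsPGroup p T₁) (h₂p : IsPGroup p T₂)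
    (h₁ : E₁.IsSaturated p) (h₂ : E₂.IsSaturated p) {D : Cfsg.FusionSystem U}
    (h : IsCentralProductOf E₁ E₂ D) : D.IsSaturated p := by
  obtain ⟨D₀, hprod, Z, θ, hZ, -, -, -, -, hfac⟩ := h
  have := finite_prod (T₁ := T₁) (T₂ := T₂)
  exact isSaturated_of_isFactorSystem (isPGroup_prod h₁p h₂p)
    (CfsgLib.FusProduct.isSaturated_product h₁p h₂p h₁ h₂ hprod) (closed_of_le_center hZ) hfac

/-- Commuting subgroups meeting in both centres have a central product. -/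
theorem exists_centralProduct (h₁p : IsPGroup p T₁) (h₂p : IsPGroup p T₂) (hc : Comm T₁ T₂)
    (hz₁ : T₁ ⊓ T₂ ≤ E₁.center) (hz₂ : T₁ ⊓ T₂ ≤ E₂.center) :
    ∃ D : Cfsg.FusionSystem (T₁ ⊔ T₂), IsCentralProductOf E₁ E₂ D := by
  classical
  obtain ⟨D₀, hprod⟩ := Cfsg.Agent.S5136.result p h₁p h₂p E₁ E₂
  have := finite_prod (T₁ := T₁) (T₂ := T₂)
  let θ : ↥(T₁.prod T₂) →* Ω := MonoidHom.mk' (fun x => (x : Ω × Ω).1 * (x : Ω × Ω).2) fun x y => by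
    show (x : Ω × Ω).1 * (y : Ω × Ω).1 * ((x : Ω × Ω).2 * (y : Ω × Ω).2) = _
    rw [mul_assoc (x : Ω × Ω).1, ← mul_assoc (y : Ω × Ω).1, hc _ y.2.1 _ x.2.2]
    group
  let Z : Subgroup (Ω × Ω) := θ.ker.map (T₁.prod T₂).subtype
  have hl : ∀ (x : Ω) (hx : ((x, 1) : Ω × Ω) ∈ T₁.prod T₂), θ ⟨(x, 1), hx⟩ = x :=
    fun x hx => mul_one x
  have hr : ∀ (y : Ω) (hy : ((1, y) : Ω × Ω) ∈ T₁.prod T₂), θ ⟨(1, y), hy⟩ = y :=
    fun y hy => one_mul y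
  have hker : ∀ s : ↥(T₁.prod T₂), θ s = 1 ↔ (s : Ω × Ω) ∈ Z := fun s =>
    ⟨fun h => ⟨s, h, rfl⟩, by
      rintro ⟨t, ht, hts⟩
      rw [← show t = s from Subtype.ext hts]
      exact ht⟩
  have hmemZ : ∀ z ∈ Z, z ∈ T₁.prod T₂ ∧ z.2 = z.1⁻¹ ∧ z.1 ∈ T₁ ⊓ T₂ := by
    rintro _ ⟨⟨⟨a, b⟩, ha, hb⟩, ht, rfl⟩
    have h : a * b = 1 := ht
    have hb' : b = a⁻¹ := eq_inv_of_mul_eq_one_right h
    refine ⟨⟨ha, hb⟩, hb', ha, ?_⟩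
    have := T₂.inv_mem hb
    rwa [show b⁻¹ = a by rw [hb', inv_inv]] at this
  have hZc : Z ≤ D₀.center := by
    refine le_sSup (show D₀.IsCentral Z from ⟨fun z hz => (hmemZ z hz).1, fun M φ hφ => ?_⟩)
    obtain ⟨hM, φ₁, hφ₁, φ₂, hφ₂, hpr⟩ := (hprod M φ).1 hφ
    obtain ⟨ψ₁, hψ₁, h11, h12⟩ := (Cfsg.Agent.S5144.result E₁).2 _ φ₁ hφ₁
    obtain ⟨ψ₂, hψ₂, h21, h22⟩ := (Cfsg.Agent.S5144.result E₂).2 _ φ₂ hφ₂
    have hl1 : (M ⊔ Z).map (MonoidHom.fst Ω Ω) ≤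
        M.map (MonoidHom.fst Ω Ω) ⊔ E₁.center := by
      rw [Subgroup.map_sup]
      refine sup_le_sup_left ?_ _
      rintro _ ⟨z, hz, rfl⟩
      exact hz₁ (hmemZ z hz).2.2
    have hl2 : (M ⊔ Z).map (MonoidHom.snd Ω Ω) ≤
        M.map (MonoidHom.snd Ω Ω) ⊔ E₂.center := by
      rw [Subgroup.map_sup]
      refine sup_le_sup_left ?_ _
      rintro _ ⟨z, hz, rfl⟩
      show z.2 ∈ _
      rw [(hmemZ z hz).2.1]
      exact E₂.center.inv_mem (hz₂ (hmemZ z hz).2.2)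
    let ψ : ↥(M ⊔ Z) →* Ω × Ω := MonoidHom.prod
      ((ψ₁.comp (Subgroup.inclusion hl1)).comp ((MonoidHom.fst Ω Ω).subgroupMap (M ⊔ Z)))
      ((ψ₂.comp (Subgroup.inclusion hl2)).comp ((MonoidHom.snd Ω Ω).subgroupMap (M ⊔ Z)))
    refine ⟨ψ, (hprod _ ψ).2 ⟨sup_le hM fun z hz => (hmemZ z hz).1, _,
      restrict_mem E₁ hψ₁ hl1, _, restrict_mem E₂ hψ₂ hl2, fun _ _ _ => rfl⟩, fun x => ?_,
      fun z => ?_⟩
    · refine (Prod.ext ?_ ?_).trans (hpr x ⟨x, x.2, rfl⟩ ⟨x, x.2, rfl⟩).symm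
      · exact h11 ⟨(x : Ω × Ω).1, x, x.2, rfl⟩
      · exact h21 ⟨(x : Ω × Ω).2, x, x.2, rfl⟩
    · refine Prod.ext ?_ ?_
      · exact h12 ⟨(z : Ω × Ω).1, hz₁ (hmemZ z z.2).2.2⟩
      · exact h22 ⟨(z : Ω × Ω).2, (hmemZ z z.2).2.1 ▸ E₂.center.inv_mem (hz₂ (hmemZ z z.2).2.2)⟩
  obtain ⟨D, hD⟩ := exists_isFactorSystem (F := D₀) (closed_of_le_center hZc) θ hker
    (range_theta hl hr)
  refine ⟨D, D₀, hprod, Z, θ, hZc, ?_, ?_, hl, hr, hD⟩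
  · refine (Subgroup.eq_bot_iff_forall _).2 fun z hz => ?_
    have h2 : z.2 = 1 := Subgroup.mem_bot.1 hz.2.2
    have := (hmemZ z hz.1).2.1
    rw [h2] at this
    exact Prod.ext (inv_eq_one.1 this.symm) h2
  · refine (Subgroup.eq_bot_iff_forall _).2 fun z hz => ?_
    have h1 : z.1 = 1 := Subgroup.mem_bot.1 hz.2.1
    have := (hmemZ z hz.1).2.1
    rw [h1, inv_one] at this
    exact Prod.ext h1 this

end CfsgLib.Fus.Prod72
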